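import Groth.Agent.Lib.NodeEt.Complete
import Groth.Agent.Lib.ArSurf29.NodeReduced
import Mathlib.Algebra.Module.SpanRankOperations
import Mathlib.RingTheory.Ideal.AssociatedPrime.Basic

/-!
# Node forms are reduced, and reduced rings with a nondegenerate quadratic relation are node forms
-/

set_option autoImplicit false
set_option linter.all false
set_option backward.isDefEq.respectTransparency false

universe u

open IsLocalRing

noncomputable section

namespace GrothLib.NodeAlg11

open GrothLib.NodeEt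

/-- The standard node is reduced over every field. -/
theorem isReduced_standard {κ : Type u} [Field κ] (a b c : κ) (hd : b ^ 2 - 4 * a * c ≠ 0) :
    _root_.IsReduced (MvPowerSeries (Fin 2) κ ⧸ Ideal.span {quadSeries κ a b c}) := by
  let K := AlgebraicClosure κ
  let i := algebraMap κ K
  let q := quadSeries κ a b c
  let qK := quadSeries K (i a) (i b) (i c)
  have hmap : MvPowerSeries.map (σ := Fin 2) i q = qK := by
    simp only [q, qK, quadSeries, map_add, map_mul, map_pow, MvPowerSeries.map_X, MvPowerSeries.map_C]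
  have hdK : i b ^ 2 - 4 * i a * i c ≠ 0 := fun h => hd (i.injective (by simpa [map_sub, map_mul, map_pow, map_ofNat] using h))
  let T := MvPowerSeries (Fin 2) K ⧸ Ideal.span {qK}
  have hres : ∀ x : T, ∃ t : K, algebraMap K T t - x ∈ maximalIdeal T := by
    intro x
    obtain ⟨f, rfl⟩ := Ideal.Quotient.mk_surjective x
    refine ⟨MvPowerSeries.constantCoeff f, ?_⟩
    rw [show algebraMap K T (MvPowerSeries.constantCoeff f) =
      Ideal.Quotient.mk _ (MvPowerSeries.C (MvPowerSeries.constantCoeff f)) from rfl, ← map_sub,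
      ← IsLocalRing.map_maximalIdeal_of_surjective _ Ideal.Quotient.mk_surjective]
    exact Ideal.mem_map_of_mem _ ((GrothLib.RegLoc.PS.mem_max K).2 (by simp))
  haveI : _root_.IsReduced T := GrothLib.ArSurf29.isReduced_of_isOrdDoublePt
    ((isOrdDoublePt_iff_nodeForm hres).2 (nodeForm_standard _ _ _ hdK))
  let φ : (MvPowerSeries (Fin 2) κ ⧸ Ideal.span {q}) →+* T :=
    Ideal.quotientMap _ (MvPowerSeries.map (σ := Fin 2) i) (by
      rw [Ideal.span_le, Set.singleton_subset_iff, SetLike.mem_coe, Ideal.mem_comap, hmap]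
      exact Ideal.mem_span_singleton_self _)
  refine isReduced_of_injective φ ((injective_iff_map_eq_zero φ).2 fun x hx => ?_)
  obtain ⟨f, rfl⟩ := Ideal.Quotient.mk_surjective x
  rw [Ideal.quotientMap_mk, Ideal.Quotient.eq_zero_iff_mem, Ideal.mem_span_singleton'] at hx
  obtain ⟨g, hg⟩ := hx
  obtain ⟨π, hπ⟩ := LinearMap.exists_leftInverse_of_injective (Algebra.linearMap κ K)
    (LinearMap.ker_eq_bot.2 i.injective)
  have hπi : ∀ r, π (i r) = r := fun r => LinearMap.congr_fun hπ r
  have hπm : ∀ x r, π (x * i r) = π x * r := fun x r => by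
    rw [mul_comm x, ← Algebra.smul_def, map_smul, smul_eq_mul, mul_comm]
  refine Ideal.Quotient.eq_zero_iff_mem.2 (Ideal.mem_span_singleton'.2
    ⟨(fun d => π (MvPowerSeries.coeff d g) : MvPowerSeries (Fin 2) κ), MvPowerSeries.ext fun d => ?_⟩)
  classical
  have h1 := congrArg (fun F => π (MvPowerSeries.coeff d F)) hg
  simp only [← hmap, MvPowerSeries.coeff_mul, MvPowerSeries.coeff_map, map_sum, hπm, hπi] at h1
  rw [MvPowerSeries.coeff_mul]
  exact h1

/-- A factor of a principal ideal generated by a nonzerodivisor is principal. -/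
theorem isPrincipal_of_mul {A : Type u} [CommRing A] [IsLocalRing A] {I J : Ideal A} {w : A}
    (hw : w ∈ nonZeroDivisors A) (h : I * J = Ideal.span {w}) : I.IsPrincipal := by
  obtain ⟨i, hi, j, hj, d, hd, hij⟩ : ∃ i ∈ I, ∃ j ∈ J, ∃ d : A, IsUnit d ∧ i * j = w * d := by
    by_contra hcon
    have hle : I * J ≤ maximalIdeal A * Ideal.span {w} := Ideal.mul_le.2 fun i hi j hj => by
      have h1 : i * j ∈ Ideal.span {w} := h ▸ Ideal.mul_mem_mul hi hj
      obtain ⟨d, hd⟩ := Ideal.mem_span_singleton'.1 h1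
      rw [← hd]
      refine Ideal.mul_mem_mul ?_ (Ideal.mem_span_singleton_self w)
      exact fun hu => hcon ⟨i, hi, j, hj, d, hu, by rw [← hd, mul_comm]⟩
    have h2 : w ∈ maximalIdeal A * Ideal.span {w} := hle (h ▸ Ideal.mem_span_singleton_self w)
    obtain ⟨t, ht, htw⟩ := Ideal.mem_mul_span_singleton.1 h2
    have h3 : t = 1 := sub_eq_zero.1 (mem_nonZeroDivisors_iff_right.1 hw (t - 1) (by rw [sub_mul, htw, one_mul, sub_self]))
    exact ht (h3 ▸ isUnit_one)
  refine ⟨⟨i, le_antisymm (fun x hx => ?_) (Ideal.span_le.2 (Set.singleton_subset_iff.2 hi))⟩⟩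
  obtain ⟨e, he⟩ := Ideal.mem_span_singleton'.1 (h ▸ Ideal.mul_mem_mul hx hj : x * j ∈ Ideal.span {w})
  obtain ⟨d, rfl⟩ := hd
  refine Ideal.mem_span_singleton'.2 ⟨e * ↑d⁻¹, sub_eq_zero.1 (mem_nonZeroDivisors_iff_right.1 hw _ ?_)⟩
  have hu : (↑d⁻¹ : A) * d = 1 := Units.inv_mul d
  linear_combination (↑d⁻¹ * i) * he + (↑d⁻¹ * x) * hij + (x * w) * hu

variable {A : Type u} [CommRing A] [IsLocalRing A] [IsNoetherianRing A]

/-- A reduced local ring with nonprincipal maximal ideal has a nonzerodivisor in it. -/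
theorem exists_nonZeroDivisor [_root_.IsReduced A] (hm : maximalIdeal A ≠ ⊥) :
    ∃ s ∈ maximalIdeal A, s ∈ nonZeroDivisors A := by
  by_contra hcon
  push Not at hcon
  have hsub : (maximalIdeal A : Set A) ⊆ ⋃ p ∈ associatedPrimes A A, (p : Set A) := fun s hs => by
    rw [biUnion_associatedPrimes_eq_compl_nonZeroDivisors]
    exact hcon s hs
  obtain ⟨p, hp, hle⟩ := (Ideal.subset_union_prime_finite (associatedPrimes.finite A A) ⊥ ⊥
    fun p hp _ _ => hp.isPrime).1 hsub
  have hpm : p = maximalIdeal A := ((maximalIdeal.isMaximal A).eq_of_le hp.isPrime.ne_top hle).symm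
  subst hpm
  obtain ⟨-, z, hz⟩ := isAssociatedPrime_iff.1 hp
  have hann : ∀ a : A, a ∈ maximalIdeal A ↔ a * z = 0 := fun a => by
    rw [hz, Submodule.mem_colon_singleton, smul_eq_mul, Submodule.mem_bot]
  by_cases hzu : IsUnit z
  · exact hm ((Submodule.eq_bot_iff _).2 fun a ha => hzu.mul_left_eq_zero.1 ((hann a).1 ha))
  have hz0 : z = 0 := IsNilpotent.eq_zero (x := z) ⟨2, by rw [pow_two]; exact (hann z).1 hzu⟩
  exact (hann 1).2 (by rw [hz0, mul_zero]) isUnit_one

/-- With a nonzerodivisor in the maximal ideal, the Hilbert function grows by two. -/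
theorem two_add_lev_le [_root_.IsReduced A] (hm : ¬ (maximalIdeal A).IsPrincipal) (n : ℕ) :
    (2 : ℕ) + lev A (n + 1) ≤ lev A (n + 1 + 1) := by
  have hno : ∀ w ∈ maximalIdeal A ^ (n + 1), ¬ maximalIdeal A ^ (n + 1) ≤ Ideal.span {w} ⊔ maximalIdeal A ^ (n + 1 + 1) := by
    intro w hw hle
    have hle' : maximalIdeal A ^ (n + 1) ≤ Ideal.span {w} :=
      Submodule.le_of_le_smul_of_le_jacobson_bot (IsNoetherian.noetherian _)
        (IsLocalRing.maximalIdeal_le_jacobson _) (by rwa [smul_eq_mul, ← pow_succ'])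
    have heq : maximalIdeal A ^ (n + 1) = Ideal.span {w} :=
      le_antisymm hle' (Ideal.span_le.2 (Set.singleton_subset_iff.2 hw))
    obtain ⟨s, hs, hs'⟩ := exists_nonZeroDivisor (A := A) fun h => hm (h ▸ bot_isPrincipal)
    obtain ⟨e, he⟩ := Ideal.mem_span_singleton'.1 (heq ▸ Ideal.pow_mem_pow hs (n + 1))
    have hwn : w ∈ nonZeroDivisors A := by
      have h1 : s ^ (n + 1) ∈ nonZeroDivisors A := pow_mem hs' _
      rw [← he] at h1
      exact (mul_mem_nonZeroDivisors.1 h1).2
    exact hm (isPrincipal_of_mul hwn (J := maximalIdeal A ^ n) (by rw [← pow_succ', heq]))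
  obtain ⟨s₀, hs₀, hs₀'⟩ := SetLike.not_le_iff_exists.1 (hno 0 (zero_mem _))
  obtain ⟨s₁, hs₁, hs₁'⟩ := SetLike.not_le_iff_exists.1 (hno s₀ hs₀)
  refine le_lev_succ (n + 1) ![s₀, s₁] (Fin.forall_fin_two.2 ⟨hs₀, hs₁⟩) fun c hc => ?_
  simp only [Fin.sum_univ_two, Matrix.cons_val_zero, Matrix.cons_val_one] at hc
  have h1 : c 1 ∈ maximalIdeal A := fun hu => hs₁' (by
    obtain ⟨v, hv⟩ := hu
    have h3 : s₁ = (↑v⁻¹ : A) * (c 0 * s₀ + c 1 * s₁) + -(↑v⁻¹ * c 0) * s₀ := by
      rw [← hv]
      have : (↑v⁻¹ : A) * v = 1 := Units.inv_mul v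
      linear_combination (-s₁) * this
    rw [h3]
    exact add_mem (Ideal.mem_sup_right (Ideal.mul_mem_left _ _ hc))
      (Ideal.mem_sup_left (Ideal.mul_mem_left _ _ (Ideal.mem_span_singleton_self _))))
  have h0 : c 0 ∈ maximalIdeal A := fun hu => hs₀' (by
    refine Ideal.mem_sup_right ((Ideal.unit_mul_mem_iff_mem _ hu).1 ?_)
    have h2 : c 1 * s₁ ∈ maximalIdeal A ^ (n + 1 + 1) := by
      rw [pow_succ' _ (n + 1)]
      exact Ideal.mul_mem_mul h1 hs₁
    simpa using sub_mem hc h2)
  exact Fin.forall_fin_two.2 ⟨h0, h1⟩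

/-- A reduced ring with two-dimensional cotangent space and a nondegenerate relation is a node form. -/
theorem nodeForm_of_isReduced [_root_.IsReduced A] (hm : ¬ (maximalIdeal A).IsPrincipal) {u v a b c : A}
    (hgen : maximalIdeal A = Ideal.span {u, v}) (hd : IsUnit (b ^ 2 - 4 * a * c))
    (hq : a * u ^ 2 + b * (u * v) + c * v ^ 2 ∈ maximalIdeal A ^ 3) : NodeForm A := by
  refine ⟨fun n => le_antisymm (lev_le hgen hd hq n) ?_, u, v, a, b, c, hgen, hd, hq⟩
  induction n with
  | zero => simp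
  | succ n ih =>
    rcases n with _ | n
    · simp [lev_one]
    · refine le_trans ?_ (two_add_lev_le hm n)
      refine le_trans ?_ (add_le_add le_rfl ih)
      rw [← Nat.cast_add, Nat.cast_le]
      omega

theorem not_isPrincipal_of_nodeForm (h : NodeForm A) : ¬ (maximalIdeal A).IsPrincipal := by
  rintro ⟨w, hw⟩
  have h1 := lev_succ_le 1 ![w] (fun i => by fin_cases i; rw [pow_one, hw]; exact Submodule.mem_span_singleton_self w)
    (by rw [pow_one]; refine le_sup_of_le_left (hw.le.trans (le_of_eq ?_)); simp)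
  rw [h.1, lev_one] at h1
  norm_num at h1

theorem finrank_cotangentSpace_of_nodeForm (h : NodeForm A) :
    Module.finrank (ResidueField A) (CotangentSpace A) = 2 := by
  obtain ⟨u, v, -, -, -, hm, -, -⟩ := h.2
  refine le_antisymm ?_ ?_
  · rw [← spanFinrank_maximalIdeal_eq_finrank_cotangentSpace, hm]
    refine (Submodule.spanFinrank_span_le_ncard_of_finite (Set.toFinite _)).trans ?_
    exact (Set.ncard_insert_le _ _).trans (by simp)
  · by_contra hlt
    exact not_isPrincipal_of_nodeForm h (finrank_cotangentSpace_le_one_iff.1 (by omega))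

theorem isReduced_of_nodeForm_completion {κ : Type u} [Field κ] {a b c : κ} (hd : b ^ 2 - 4 * a * c ≠ 0)
    (e : AdicCompletion (maximalIdeal A) A ≃+* (MvPowerSeries (Fin 2) κ ⧸ Ideal.span {quadSeries κ a b c})) :
    _root_.IsReduced A := by
  haveI := isReduced_standard a b c hd
  exact isReduced_of_injective (e.toRingHom.comp (algebraMap A _))
    (e.injective.comp (AdicCompletion.of_injective (maximalIdeal A) A))

end GrothLib.NodeAlg11
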